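import Mathlib
import Groth.Agent.S2107

/-!
# Regular sequences on the closed fibre lift (local version, EGA IV 11.3.8)

`R → S` a local homomorphism, `S` essentially of finite presentation over `R`, `N` a finitely
presented `S`-module flat over `R`.  If `gs` is a weakly regular sequence on `N ⧸ 𝔪_R N`, then it is
weakly regular on `N` and all the quotients `N ⧸ (g₁, …, gᵢ) N` are flat over `R`.
-/

set_option autoImplicit false
set_option linter.style.haveILetI false
universe u

open scoped Pointwise
open RingTheory.Sequence IsLocalRing Submodule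

namespace Groth.Agent.H70.RegFibre

section Swap

variable {S : Type u} [CommRing S] (N : Type u) [AddCommGroup N] [Module S N]

/-- `(N ⧸ I N) ⧸ b (N ⧸ I N) ≃ (N ⧸ b N) ⧸ I (N ⧸ b N)`. -/
noncomputable def quotSMulTopSwap (I : Ideal S) (b : S) :
    QuotSMulTop b (N ⧸ (I • ⊤ : Submodule S N)) ≃ₗ[S]
      (QuotSMulTop b N) ⧸ (I • ⊤ : Submodule S (QuotSMulTop b N)) :=
  (quotEquivOfEq _ _ (by rw [map_pointwise_smul, Submodule.map_top, range_mkQ])).symm ≪≫ₗ
    (quotientQuotientEquivQuotientSup (I • ⊤ : Submodule S N) (b • ⊤)) ≪≫ₗ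
    quotEquivOfEq _ _ (sup_comm _ _) ≪≫ₗ
    (quotientQuotientEquivQuotientSup (b • ⊤ : Submodule S N) (I • ⊤)).symm ≪≫ₗ
      quotEquivOfEq _ _ (by rw [map_smul'', Submodule.map_top, range_mkQ])

end Swap

section LT

variable {R S : Type u} [CommRing R] [CommRing S] [IsLocalRing R] [IsLocalRing S] [Algebra R S]
  [IsLocalHom (algebraMap R S)]

/-- Local form of EGA IV 11.3.8: a sequence weakly regular on the closed fibre `N ⧸ 𝔪_R N` of an
`R`-flat finitely presented `S`-module is weakly regular on `N`, with `R`-flat successive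
quotients. -/
theorem isWeaklyRegular_and_flat_of_fibre (hS : CAlgX.IsEssFinitePresentation R S) (gs : List S) :
    ∀ (N : Type u) [AddCommGroup N] [Module S N] [Module R N] [IsScalarTower R S N]
      [Module.FinitePresentation S N] [Module.Flat R N],
      IsWeaklyRegular (N ⧸ ((maximalIdeal R).map (algebraMap R S) • ⊤ : Submodule S N)) gs →
      IsWeaklyRegular N gs ∧ ∀ i ≤ gs.length,
        Module.Flat R (N ⧸ (Ideal.ofList (gs.take i) • ⊤ : Submodule S N)) := by
  induction gs with
  | nil =>
    intro N _ _ _ _ _ _ _
    refine ⟨IsWeaklyRegular.nil S N, ?_⟩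
    intro i hi
    have hi0 : i = 0 := by simpa using hi
    subst hi0
    have hbot : (Ideal.ofList (([] : List S).take 0) • ⊤ : Submodule S N) = ⊥ := by
      simp
    exact Module.Flat.of_linearEquiv
      ((Submodule.quotEquivOfEqBot _ hbot).restrictScalars R)
  | cons b gs ih =>
    intro N _ _ _ _ _ _ h
    rw [isWeaklyRegular_cons_iff] at h
    obtain ⟨h1, h2⟩ := h
    set m : Ideal S := (maximalIdeal R).map (algebraMap R S) with hm
    -- apply the flatness-descent criterion to multiplication by `b`
    have hu : ∀ x : N, (LinearMap.lsmul S N b) x ∈ (m • ⊤ : Submodule S N) →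
        x ∈ (m • ⊤ : Submodule S N) := by
      intro x hx
      rw [← Submodule.Quotient.mk_eq_zero] at hx ⊢
      apply h1
      simpa using hx
    obtain ⟨hinj, hfl⟩ := Groth.Agent.S2107.result hS (LinearMap.lsmul S N b) hu
    have hrange : LinearMap.range (LinearMap.lsmul S N b) = (b • ⊤ : Submodule S N) := by
      ext x
      simp [Submodule.mem_smul_pointwise_iff_exists]
    have hfl' : Module.Flat R (QuotSMulTop b N) :=
      Module.Flat.of_linearEquiv
        ((Submodule.quotEquivOfEq _ _ hrange).symm.restrictScalars R)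
    have hfp : Module.FinitePresentation S (QuotSMulTop b N) := by
      refine Module.finitePresentation_of_surjective (b • ⊤ : Submodule S N).mkQ
        (Submodule.mkQ_surjective _) ?_
      rw [Submodule.ker_mkQ, ← hrange, LinearMap.range_eq_map]
      exact Submodule.FG.map _ Module.Finite.fg_top
    have h2' : IsWeaklyRegular
        (QuotSMulTop b N ⧸ (m • ⊤ : Submodule S (QuotSMulTop b N))) gs :=
      ((quotSMulTopSwap N m b).isWeaklyRegular_congr gs).mp h2
    obtain ⟨ih1, ih2⟩ := ih (QuotSMulTop b N) h2'
    refine ⟨IsWeaklyRegular.cons hinj ih1, ?_⟩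
    intro i hi
    rcases i with _ | j
    · have hbot : (Ideal.ofList ((b :: gs).take 0) • ⊤ : Submodule S N) = ⊥ := by
        simp
      exact Module.Flat.of_linearEquiv
        ((Submodule.quotEquivOfEqBot _ hbot).restrictScalars R)
    · have hj : j ≤ gs.length := by simpa using hi
      have := ih2 j hj
      rw [List.take_succ_cons]
      exact Module.Flat.of_linearEquiv
        ((Submodule.quotOfListConsSMulTopEquivQuotSMulTopInner N b (gs.take j)).restrictScalars R)

end LT

end Groth.Agent.H70.RegFibre
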