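import Mathlib
import Groth.Prelude.Def_CAlgX

/-!
# Local rings of a finitely presented algebra are essentially of finite presentation
-/

set_option autoImplicit false
set_option linter.style.haveILetI false
universe u

open TensorProduct

namespace Groth.Agent.H70.RegFibre

theorem isEssFinitePresentation_atPrime {A B : Type u} [CommRing A] [CommRing B] [Algebra A B]
    [Algebra.FinitePresentation A B] (p : Ideal A) [p.IsPrime] (q : Ideal B) [q.IsPrime]
    [q.LiesOver p] [Algebra (Localization.AtPrime p) (Localization.AtPrime q)]
    [Localization.AtPrime.IsLiesOverAlgebra p q] :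
    CAlgX.IsEssFinitePresentation (Localization.AtPrime p) (Localization.AtPrime q) := by
  let Mp : Submonoid B := Algebra.algebraMapSubmonoid B p.primeCompl
  have hle : Mp ≤ q.primeCompl := by
    rintro _ ⟨a, ha, rfl⟩
    intro h
    apply ha
    rw [Ideal.LiesOver.over (p := p) (P := q)]
    exact h
  let S₀ := Localization Mp
  letI : Algebra S₀ (Localization.AtPrime q) :=
    IsLocalization.localizationAlgebraOfSubmonoidLe S₀ (Localization.AtPrime q) Mp q.primeCompl hle
  haveI : IsScalarTower B S₀ (Localization.AtPrime q) :=
    IsLocalization.localization_isScalarTower_of_submonoid_le _ _ _ _ hle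
  have hfp : Algebra.FinitePresentation (Localization.AtPrime p) S₀ :=
    Algebra.FinitePresentation.equiv (Localization.tensorRightAlgEquiv p.primeCompl B)
  have htower : IsScalarTower (Localization.AtPrime p) S₀ (Localization.AtPrime q) := by
    refine IsScalarTower.of_algebraMap_eq' ?_
    apply IsLocalization.ringHom_ext p.primeCompl
    ext a
    simp only [RingHom.comp_apply]
    rw [← IsScalarTower.algebraMap_apply A (Localization.AtPrime p) (Localization.AtPrime q),
      ← IsScalarTower.algebraMap_apply A (Localization.AtPrime p) S₀,
      IsScalarTower.algebraMap_apply A B S₀,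
      ← IsScalarTower.algebraMap_apply B S₀ (Localization.AtPrime q),
      ← IsScalarTower.algebraMap_apply A B (Localization.AtPrime q)]
  exact ⟨S₀, inferInstance, inferInstance, inferInstance, htower,
    q.primeCompl.map (algebraMap B S₀), hfp,
    IsLocalization.isLocalization_of_submonoid_le S₀ _ Mp q.primeCompl hle⟩

end Groth.Agent.H70.RegFibre
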