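import Mathlib

/-!
# The fibre module of a localized module

For `A → B`, a `B`-module `M`, primes `q` over `p`, the localization at `q` of `M ⊗[A] κ(p)` is
`M_q ⧸ 𝔪_p M_q` (as `B`-modules).
-/

set_option autoImplicit false
set_option linter.style.haveILetI false
universe u

open TensorProduct

namespace Groth.Agent.H70.RegFibre

section KerTmul

variable {A : Type u} [CommRing A] (T : Submonoid A) (R : Type u) [CommRing R] [Algebra A R]
  [IsLocalization T R] (I : Ideal R) (N : Type u) [AddCommGroup N] [Module A N] [Module R N]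
  [IsScalarTower A R N]

include T in
theorem tmul_one_eq_zero_iff (n : N) :
    n ⊗ₜ[A] (1 : R ⧸ I) = 0 ↔ n ∈ (I • ⊤ : Submodule R N) := by
  let e₁ := IsLocalization.moduleTensorEquiv T R N (R ⧸ I)
  let e₂ := TensorProduct.tensorQuotEquivQuotSMul N I
  have h1 : e₁ (n ⊗ₜ[R] (1 : R ⧸ I)) = n ⊗ₜ[A] (1 : R ⧸ I) := rfl
  have h2 : e₂ (n ⊗ₜ[R] (1 : R ⧸ I)) = Submodule.Quotient.mk n := by
    have := TensorProduct.tensorQuotEquivQuotSMul_tmul_mk (M := N) I n (1 : R)
    simpa using this
  rw [← h1, LinearEquiv.map_eq_zero_iff, ← LinearEquiv.map_eq_zero_iff e₂, h2,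
    Submodule.Quotient.mk_eq_zero]

include T in
theorem tmul_one_surjective (z : N ⊗[A] (R ⧸ I)) : ∃ n : N, n ⊗ₜ[A] (1 : R ⧸ I) = z := by
  haveI := IsLocalization.tensorProduct_compatibleSMul T R N (R ⧸ I)
  induction z using TensorProduct.induction_on with
  | zero => exact ⟨0, by simp⟩
  | tmul n k =>
    obtain ⟨r, rfl⟩ := Ideal.Quotient.mk_surjective k
    refine ⟨r • n, ?_⟩
    rw [TensorProduct.smul_tmul]
    congr 1
    change r • (Ideal.Quotient.mk I 1) = Ideal.Quotient.mk I r
    rw [← Ideal.Quotient.mk_eq_mk, ← Submodule.Quotient.mk_smul, smul_eq_mul, mul_one]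
    rfl
  | add x y hx hy =>
    obtain ⟨a, rfl⟩ := hx
    obtain ⟨b, rfl⟩ := hy
    exact ⟨a + b, add_tmul a b 1⟩

end KerTmul

section FibreEquiv

variable {A B : Type u} [CommRing A] [CommRing B] [Algebra A B]
  (M : Type u) [AddCommGroup M] [Module B M] [Module A M] [IsScalarTower A B M]
  (p : Ideal A) [p.IsPrime] (q : Ideal B) [q.IsPrime]
  [Algebra (Localization.AtPrime p) (Localization.AtPrime q)]
  [Module (Localization.AtPrime p) (LocalizedModule q.primeCompl M)]
  [IsScalarTower (Localization.AtPrime p) (Localization.AtPrime q)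
    (LocalizedModule q.primeCompl M)]
  [IsScalarTower A (Localization.AtPrime p) (LocalizedModule q.primeCompl M)]

/-- `(M ⊗[A] κ(p))_q ≃ M_q ⧸ 𝔪_p M_q`, `B`-linearly. -/
theorem exists_fibreEquiv :
    Nonempty (LocalizedModule q.primeCompl (M ⊗[A] p.ResidueField) ≃ₗ[B]
      (LocalizedModule q.primeCompl M) ⧸
        ((IsLocalRing.maximalIdeal (Localization.AtPrime p)).map
          (algebraMap (Localization.AtPrime p) (Localization.AtPrime q)) • ⊤ :
          Submodule (Localization.AtPrime q) (LocalizedModule q.primeCompl M))) := by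
  let R := Localization.AtPrime p
  let S := Localization.AtPrime q
  let N' := LocalizedModule q.primeCompl M
  let κ := p.ResidueField
  let mR := IsLocalRing.maximalIdeal R
  let f : N' →ₗ[B] N' ⊗[A] κ :=
    { toFun := fun n => n ⊗ₜ 1
      map_add' := fun x y => add_tmul x y 1
      map_smul' := fun b x => rfl }
  have hsurj : Function.Surjective f := fun z => tmul_one_surjective p.primeCompl R mR N' z
  have hker : LinearMap.ker f =
      ((mR.map (algebraMap R S) • ⊤ : Submodule S N')).restrictScalars B := by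
    ext n
    rw [LinearMap.mem_ker, Submodule.restrictScalars_mem]
    have h1 := tmul_one_eq_zero_iff p.primeCompl R mR N' n
    have h2 : (mR.map (algebraMap R S) • (⊤ : Submodule S N')).restrictScalars R =
        mR • (⊤ : Submodule R N') := by
      rw [Ideal.smul_restrictScalars, Submodule.restrictScalars_top]
    rw [← h2, Submodule.restrictScalars_mem] at h1
    exact h1
  let e_a := IsLocalizedModule.iso q.primeCompl
    (AlgebraTensorModule.rTensor A κ (LocalizedModule.mkLinearMap q.primeCompl M))
  exact ⟨e_a ≪≫ₗ (f.quotKerEquivOfSurjective hsurj).symm ≪≫ₗ Submodule.quotEquivOfEq _ _ hker ≪≫ₗ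
    Submodule.Quotient.restrictScalarsEquiv B _⟩

end FibreEquiv

end Groth.Agent.H70.RegFibre
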