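import Mathlib
import Groth.Agent.H70.RegFibre.Local
import Groth.Agent.H70.RegFibre.EssFP
import Groth.Agent.H70.RegFibre.Fibre

/-!
# EGA IV 11.3.8 (c ⇒ b), global form
-/

set_option autoImplicit false
set_option linter.style.haveILetI false
universe u

open TensorProduct RingTheory.Sequence

namespace Groth.Agent.H70.RegFibre

section Iso6

variable {B : Type u} [CommRing B] (M : Type u) [AddCommGroup M] [Module B M] (T : Submonoid B)
  (I : Ideal B)

/-- `M_T ⧸ I M_T ≃ (M ⧸ I M)_T`. -/
noncomputable def locQuotSMulEquiv :
    (LocalizedModule T M ⧸ (I.map (algebraMap B (Localization T)) • ⊤ :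
      Submodule (Localization T) (LocalizedModule T M))) ≃ₗ[Localization T]
      LocalizedModule T (M ⧸ (I • ⊤ : Submodule B M)) :=
  Submodule.quotEquivOfEq _ _ (by
    rw [Submodule.localized, Submodule.localized'_smul, Submodule.localized'_top,
      Ideal.localized'_eq_map]) ≪≫ₗ localizedQuotientEquiv T (I • ⊤)

end Iso6

section Main

theorem isRegular_and_flat_quotients {A B : Type u} [CommRing A] [CommRing B] [Algebra A B]
    [Algebra.FinitePresentation A B]
    (M : Type u) [AddCommGroup M] [Module B M] [Module A M] [IsScalarTower A B M]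
    [Module.FinitePresentation B M] (p : Ideal A) [p.IsPrime] (q : Ideal B) [q.IsPrime]
    [q.LiesOver p] (g : List B) (hg : ∀ b ∈ g, b ∈ q)
    (hflat : Module.Flat A (LocalizedModule q.primeCompl M))
    (hreg : IsRegular (LocalizedModule q.primeCompl (M ⊗[A] p.ResidueField)) g) :
    IsRegular (LocalizedModule q.primeCompl M) g ∧
      ∀ i ≤ g.length, Module.Flat A
        (LocalizedModule q.primeCompl (M ⧸ (Ideal.ofList (g.take i) • (⊤ : Submodule B M)))) := by
  let R := Localization.AtPrime p
  let S := Localization.AtPrime q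
  letI : Algebra R S := Localization.AtPrime.algebraOfLiesOver p q
  let N' := LocalizedModule q.primeCompl M
  letI : Module R N' := Module.compHom N' (algebraMap R S)
  haveI : IsScalarTower R S N' := ⟨fun r s n => by
    change (r • s) • n = (algebraMap R S r) • (s • n)
    rw [Algebra.smul_def, mul_smul]⟩
  haveI : IsScalarTower A R N' := ⟨fun a r n => by
    change (algebraMap R S (a • r)) • n = a • ((algebraMap R S r) • n)
    rw [← smul_assoc]
    congr 1
    rw [Algebra.smul_def, map_mul, ← IsScalarTower.algebraMap_apply A R S, Algebra.smul_def]⟩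
  have hS := isEssFinitePresentation_atPrime p q
  haveI : Module.Flat R N' := (Module.flat_iff_of_isLocalization R p.primeCompl N').mpr hflat
  obtain ⟨e5⟩ := exists_fibreEquiv M p q
  set m : Ideal S := (IsLocalRing.maximalIdeal R).map (algebraMap R S) with hm
  have hfib : IsWeaklyRegular (N' ⧸ (m • ⊤ : Submodule S N')) (g.map (algebraMap B S)) := by
    rw [isWeaklyRegular_map_algebraMap_iff]
    exact (e5.isWeaklyRegular_congr g).mp hreg.toIsWeaklyRegular
  obtain ⟨h1, h2⟩ := isWeaklyRegular_and_flat_of_fibre hS (g.map (algebraMap B S)) N' hfib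
  have hgm : ∀ r ∈ g.map (algebraMap B S), r ∈ IsLocalRing.maximalIdeal S := by
    intro r hr
    obtain ⟨b, hb, rfl⟩ := List.mem_map.mp hr
    exact (IsLocalization.AtPrime.to_map_mem_maximal_iff S q b).mpr (hg b hb)
  haveI : Nontrivial (N' ⧸ (m • ⊤ : Submodule S N')) := by
    haveI := hreg.nontrivial
    exact e5.symm.toEquiv.nontrivial
  haveI : Nontrivial N' :=
    Function.Surjective.nontrivial (Submodule.mkQ_surjective (m • ⊤ : Submodule S N'))
  have hregS : IsRegular N' (g.map (algebraMap B S)) :=
    IsRegular.of_isWeaklyRegular_of_mem_maximalIdeal N' hgm h1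
  refine ⟨⟨(isWeaklyRegular_map_algebraMap_iff S N' g).mp h1, ?_⟩, ?_⟩
  · intro h
    apply hregS.top_ne_smul
    apply Submodule.restrictScalars_injective B S N'
    rw [← Ideal.map_ofList, Ideal.smul_restrictScalars, Submodule.restrictScalars_top]
    exact h
  · intro i hi
    have hfl := h2 i (by simpa using hi)
    rw [← List.map_take, ← Ideal.map_ofList] at hfl
    haveI : Module.Flat A (N' ⧸ ((Ideal.ofList (g.take i)).map (algebraMap B S) • ⊤ :
        Submodule S N')) := Module.Flat.trans A R _
    exact Module.Flat.of_linearEquiv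
      ((locQuotSMulEquiv M q.primeCompl (Ideal.ofList (g.take i))).symm.restrictScalars A)

end Main

end Groth.Agent.H70.RegFibre
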