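import Mathlib
import Groth.Agent.H70.RegFibre.Global

/-!
# Weakly regular sequences on the fibre lift to the stalk (no membership / nontriviality needed)
-/

set_option autoImplicit false
set_option linter.style.haveILetI false
universe u

open TensorProduct RingTheory.Sequence

namespace Groth.Agent.H70.RegFibre

theorem isWeaklyRegular_localizedModule_of_fibre {A B : Type u} [CommRing A] [CommRing B]
    [Algebra A B] [Algebra.FinitePresentation A B]
    (M : Type u) [AddCommGroup M] [Module B M] [Module A M] [IsScalarTower A B M]
    [Module.FinitePresentation B M] (p : Ideal A) [p.IsPrime] (q : Ideal B) [q.IsPrime]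
    [q.LiesOver p] (g : List B)
    (hflat : Module.Flat A (LocalizedModule q.primeCompl M))
    (hreg : IsWeaklyRegular (LocalizedModule q.primeCompl (M ⊗[A] p.ResidueField)) g) :
    IsWeaklyRegular (LocalizedModule q.primeCompl M) g := by
  let R := Localization.AtPrime p
  let S := Localization.AtPrime q
  letI : Algebra R S := Localization.AtPrime.algebraOfLiesOver p q
  let N' := LocalizedModule q.primeCompl M
  letI : Module R N' := Module.compHom N' (algebraMap R S)
  haveI : IsScalarTower R S N' := ⟨fun r s n => by
    change (r • s) • n = (algebraMap R S r) • (s • n)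
    rw [Algebra.smul_def, mul_smul]⟩
  haveI : IsScalarTower A R N' := ⟨fun a r n => by
    change (algebraMap R S (a • r)) • n = a • ((algebraMap R S r) • n)
    rw [← smul_assoc]
    congr 1
    rw [Algebra.smul_def, map_mul, ← IsScalarTower.algebraMap_apply A R S, Algebra.smul_def]⟩
  have hS := isEssFinitePresentation_atPrime p q
  haveI : Module.Flat R N' := (Module.flat_iff_of_isLocalization R p.primeCompl N').mpr hflat
  obtain ⟨e5⟩ := exists_fibreEquiv M p q
  set m : Ideal S := (IsLocalRing.maximalIdeal R).map (algebraMap R S) with hm
  have hfib : IsWeaklyRegular (N' ⧸ (m • ⊤ : Submodule S N')) (g.map (algebraMap B S)) := by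
    rw [isWeaklyRegular_map_algebraMap_iff]
    exact (e5.isWeaklyRegular_congr g).mp hreg
  obtain ⟨h1, -⟩ := isWeaklyRegular_and_flat_of_fibre hS (g.map (algebraMap B S)) N' hfib
  exact (isWeaklyRegular_map_algebraMap_iff S N' g).mp h1

end Groth.Agent.H70.RegFibre
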